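import Mathlib
import Groth.Prelude.Def_DRing3
import Groth.Prelude.Def_Wider
import Groth.Agent.Lib.Helper5.RHomE.LocDualCx
import Groth.Agent.Lib.Helper5.RGam.FlatBC
import Groth.Agent.Lib.Helper3.BCFlat2
import Groth.Agent.Lib.Helper1.JacTFAE
import Groth.Agent.Lib.Helper2.CompleteNoeth
import Groth.Agent.Lib.Helper5.DTenLib.Base
import Groth.Agent.Lib.Helper1.MatlisL

/-!
# Local cohomology vs. duality vanishing over a Noetherian local ring (S19135)
-/

set_option autoImplicit false
universe u v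
open CategoryTheory CategoryTheory.Limits Pretriangulated

attribute [local instance] HasDerivedCategory.standard

namespace Helper5.PervLoc

open DRing DerivedCategory Groth.Agent.Helper3.BCDer Groth.Agent.Helper3.BCDual TensorProduct
  Groth.Agent.Helper5.FlatBC

section FF

variable {A : Type u} [CommRing A] [IsNoetherianRing A] (B : Type u) [CommRing B] [Algebra A B]
  [Module.FaithfullyFlat A B]

lemma subsingleton_hom_G_iff (K L : Dual.D A) (hK : Bdd K)
    (hKf : ∀ i : ℤ, Module.Finite A (Dual.HD A K i)) (hL : Bdd L) :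
    Subsingleton ((G (A := A) B).obj K ⟶ (G (A := A) B).obj L) ↔ Subsingleton (K ⟶ L) := by
  have h := bijBC_main B K L hK hKf hL
  have e := Equiv.ofBijective _ h
  rw [← e.subsingleton_congr]
  exact Module.FaithfullyFlat.subsingleton_tensorProduct_iff_right A B

lemma subsingleton_Ef_iff (M : ModuleCat.{u} A) :
    Subsingleton ((Ef (R := A) B).obj M) ↔ Subsingleton M := by
  have e : B ⊗[A] M ≃ ((Ef (R := A) B).obj M) := (eqv B M).toEquiv
  exact e.subsingleton_congr.symm.trans
    (Module.FaithfullyFlat.subsingleton_tensorProduct_iff_right A B)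

set_option backward.isDefEq.respectTransparency false in
omit [IsNoetherianRing A] in
lemma subsingleton_extendScalars_iff (M : ModuleCat.{v} A) :
    Subsingleton ((ModuleCat.extendScalars (algebraMap A B)).obj M) ↔ Subsingleton M := by
  let e0 : B ≃ₗ[A] ((ModuleCat.restrictScalars (algebraMap A B)).obj (ModuleCat.of B B)) :=
    { toFun := fun b => b
      invFun := fun b => b
      map_add' := fun _ _ => rfl
      map_smul' := fun a b => Algebra.smul_def a b
      left_inv := fun _ => rfl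
      right_inv := fun _ => rfl }
  have e : B ⊗[A] M ≃ ((ModuleCat.extendScalars (algebraMap A B)).obj M) :=
    (TensorProduct.congr e0 (LinearEquiv.refl A M)).toEquiv
  exact e.subsingleton_congr.symm.trans
    (Module.FaithfullyFlat.subsingleton_tensorProduct_iff_right A B)

end FF

section Complete

open Groth.Agent.Helper1.InjHullL Groth.Agent.Helper1.MatlisL

variable {B : Type u} [CommRing B] [IsLocalRing B] [IsNoetherianRing B]
  [IsAdicComplete (IsLocalRing.maximalIdeal B) B]

/-- `E(k)` is a cogenerator (universe-polymorphic version) -/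
theorem exists_dual_ne_zero' {E : Type u} [AddCommGroup E] [Module B E]
    (f : IsLocalRing.ResidueField B →ₗ[B] E) (hf : InjHull.IsInjectiveHull f)
    {M : Type v} [AddCommGroup M] [Module B M]
    {x : M} (hx : x ≠ 0) : ∃ φ : M →ₗ[B] E, φ x ≠ 0 := by
  have := hf.isInjective
  let 𝔞 : Ideal B := LinearMap.ker (LinearMap.toSpanSingleton B M x)
  have h𝔞 : 𝔞 ≤ IsLocalRing.maximalIdeal B := by
    apply IsLocalRing.le_maximalIdeal
    intro htop
    have : (1 : B) ∈ 𝔞 := htop ▸ Submodule.mem_top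
    rw [LinearMap.mem_ker, LinearMap.toSpanSingleton_apply, one_smul] at this
    exact hx this
  let j : (B ⧸ 𝔞) →ₗ[B] M := Submodule.liftQ 𝔞 (LinearMap.toSpanSingleton B M x) le_rfl
  have hj : Function.Injective j := by
    rw [← LinearMap.ker_eq_bot]
    exact Submodule.ker_liftQ_eq_bot' _ _ rfl
  let q : B →ₗ[B] E := f ∘ₗ (Algebra.linearMap B (IsLocalRing.ResidueField B))
  have hq : 𝔞 ≤ LinearMap.ker q := by
    intro a ha
    rw [LinearMap.mem_ker, LinearMap.comp_apply, Algebra.linearMap_apply]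
    have : algebraMap B (IsLocalRing.ResidueField B) a = 0 :=
      (IsLocalRing.residue_eq_zero_iff a).mpr (h𝔞 ha)
    rw [this, map_zero]
  let g : (B ⧸ 𝔞) →ₗ[B] E := Submodule.liftQ 𝔞 q hq
  obtain ⟨φ, hφ⟩ := Module.Injective.extension_property B E _ _ j hj g
  refine ⟨φ, ?_⟩
  have h1 : j (Submodule.Quotient.mk 1) = x := by
    show (LinearMap.toSpanSingleton B M x) 1 = x
    rw [LinearMap.toSpanSingleton_apply, one_smul]
  have h2 : φ x = f 1 := by
    rw [← h1, ← LinearMap.comp_apply, hφ]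
    show q 1 = f 1
    rw [LinearMap.comp_apply, Algebra.linearMap_apply, map_one]
  rw [h2]
  intro h0
  exact one_ne_zero (hf.injective (h0.trans (map_zero f).symm))

lemma subsingleton_hom_iff_complete (ω : Dual.D B) (hω : Dual.IsDualizing B ω)
    (hn : Dual.IsNormalized B ω) (K : Dual.D B)
    (hK : ∀ i : ℤ, Module.Finite B (Dual.HD B K i)) (i : ℤ) :
    Subsingleton (K ⟶ ω⟦(-i)⟧) ↔
      Subsingleton (Dual2.HDI B (IsLocalRing.maximalIdeal B) K i) := by
  obtain ⟨E, _, _, f, hf⟩ := exists_injectiveHull (R := B) (IsLocalRing.ResidueField B)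
  obtain ⟨e⟩ := Helper5.RHomE.main_S1761 B ω hω hn E f hf K hK i
  rw [e.toEquiv.subsingleton_congr]
  constructor
  · intro h
    by_contra hne
    rw [not_subsingleton_iff_nontrivial] at hne
    obtain ⟨x, hx⟩ := exists_ne (0 : (Dual2.HDI B (IsLocalRing.maximalIdeal B) K i : Type (u+1)))
    obtain ⟨φ, hφ⟩ := exists_dual_ne_zero' f hf hx
    exact hφ (by rw [Subsingleton.elim φ 0]; rfl)
  · intro h
    infer_instance

end Complete

section Main

variable (A : Type u) [CommRing A] [IsLocalRing A] [IsNoetherianRing A]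

lemma bdd_of_subsingleton (M : Dual.D A)
    (hbd : ∃ a b : ℤ, ∀ i : ℤ, (i < a ∨ b < i) → Subsingleton (Dual.HD A M i)) : Bdd M := by
  obtain ⟨a, b, h⟩ := hbd
  refine ⟨a, b, ?_, ?_⟩
  · rw [DerivedCategory.isGE_iff]
    intro i hi
    haveI := h i (Or.inl hi)
    exact ModuleCat.isZero_of_subsingleton _
  · rw [DerivedCategory.isLE_iff]
    intro i hi
    haveI := h i (Or.inr hi)
    exact ModuleCat.isZero_of_subsingleton _

omit [IsLocalRing A] [IsNoetherianRing A] in
theorem subsingleton_hom_iff_aux (A B : Type u) [CommRing A] [CommRing B] [IsLocalRing A]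
    [IsLocalRing B] [Algebra A B] [IsLocalHom (algebraMap A B)] [IsNoetherianRing A]
    [IsNoetherianRing B] [Module.FaithfullyFlat A B]
    [IsAdicComplete (IsLocalRing.maximalIdeal B) B]
    (hm : (IsLocalRing.maximalIdeal A).map (algebraMap A B) = IsLocalRing.maximalIdeal B)
    (ω : Dual.D A) (hω : Dual.IsDualizing A ω) (hn : Dual.IsNormalized A ω)
    [DRing.HasRgammaI (IsLocalRing.maximalIdeal A)] (M : Dual.D A)
    (hfin : ∀ i : ℤ, Module.Finite A (Dual.HD A M i)) (hbd : Bdd M) (i : ℤ) :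
    Subsingleton (M ⟶ ω⟦(-i)⟧) ↔
      Subsingleton (Dual.HD A ((DRing.RgammaI (IsLocalRing.maximalIdeal A)).obj M) i) := by
  obtain ⟨hωB, hnB⟩ := Groth.Agent.Helper3.BCFlat.main_S1777 A B hm ω hω hn
  have hMB : ∀ j : ℤ, Module.Finite B
      (Dual.HD B ((DRing.LBaseChange (algebraMap A B)).obj M) j) := by
    intro j
    haveI := hfin j
    haveI := finite_homology_G B M j
    exact Module.Finite.equiv ((DerivedCategory.homologyFunctor (ModuleCat.{u} B) j).mapIso
      ((lbcIsoG B).app M).symm).toLinearEquiv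
  have h3 := subsingleton_hom_iff_complete _ hωB hnB _ hMB i
  have h1 := subsingleton_hom_G_iff B M (ω⟦(-i)⟧) hbd hfin
    (bdd_shift ω (-i) (bdd_of_isDualizing hω))
  have e2 : ((G (A := A) B).obj M ⟶ (G (A := A) B).obj (ω⟦(-i)⟧)) ≃
      ((DRing.LBaseChange (algebraMap A B)).obj M ⟶
        ((DRing.LBaseChange (algebraMap A B)).obj ω)⟦(-i)⟧) :=
    Iso.homCongr ((lbcIsoG B).app M).symm (GshiftIso B ω (-i) ≪≫
      (shiftFunctor (Dual.D B) (-i)).mapIso ((lbcIsoG B).app ω).symm)
  obtain ⟨e4⟩ := Helper5.RGam.hdi_flat_baseChange A B (IsLocalRing.maximalIdeal A) M i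
  rw [hm] at e4
  obtain ⟨e6⟩ := Helper5.LC.main (IsLocalRing.maximalIdeal A) i M
  rw [← h1, e2.subsingleton_congr, h3, e4.toLinearEquiv.toEquiv.subsingleton_congr,
    subsingleton_extendScalars_iff, e6.toEquiv.subsingleton_congr]

theorem subsingleton_hom_iff (ω : Dual.D A) (hω : Dual.IsDualizing A ω)
    (hn : Dual.IsNormalized A ω)
    [DRing.HasRgammaI (IsLocalRing.maximalIdeal A)] (M : Dual.D A)
    (hfin : ∀ i : ℤ, Module.Finite A (Dual.HD A M i)) (hbd : Bdd M) (i : ℤ) :
    Subsingleton (M ⟶ ω⟦(-i)⟧) ↔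
      Subsingleton (Dual.HD A ((DRing.RgammaI (IsLocalRing.maximalIdeal A)).obj M) i) := by
  have hfg : (IsLocalRing.maximalIdeal A).FG := IsNoetherian.noetherian _
  haveI : IsNoetherianRing (AdicCompletion (IsLocalRing.maximalIdeal A) A) :=
    Groth.Agent.Helper2.CompleteNoeth.isNoetherianRing_adicCompletion A _ hfg
  haveI : Module.FaithfullyFlat A (AdicCompletion (IsLocalRing.maximalIdeal A) A) :=
    Groth.Agent.Helper1.JacTFAE.faithfullyFlat_of_le A _
      (IsLocalRing.maximalIdeal_le_jacobson _)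
  exact subsingleton_hom_iff_aux A (AdicCompletion (IsLocalRing.maximalIdeal A) A)
    AdicCompletion.maximalIdeal_eq_map.symm ω hω hn M hfin hbd i

/-- **S19135** -/
theorem main_S19135 (ω : Dual.D A) (hω : Dual.IsDualizing A ω) (hn : Dual.IsNormalized A ω)
    [DRing.HasRgammaI (IsLocalRing.maximalIdeal A)] (M : Dual.D A)
    (hfin : ∀ i : ℤ, Module.Finite A (Dual.HD A M i))
    (hbd : ∃ a b : ℤ, ∀ i : ℤ, (i < a ∨ b < i) → Subsingleton (Dual.HD A M i)) :
    ((∀ i : ℤ, i < 0 → Subsingleton (M ⟶ ω⟦i⟧)) ↔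
      (∀ i : ℤ, 0 < i → Subsingleton
        (Dual.HD A ((DRing.RgammaI (IsLocalRing.maximalIdeal A)).obj M) i))) ∧
    ((∀ i : ℤ, 0 < i → Subsingleton (M ⟶ ω⟦i⟧)) ↔
      (∀ i : ℤ, i < 0 → Subsingleton
        (Dual.HD A ((DRing.RgammaI (IsLocalRing.maximalIdeal A)).obj M) i))) := by
  have hb := bdd_of_subsingleton A M hbd
  have key := subsingleton_hom_iff A ω hω hn M hfin hb
  have key' : ∀ i : ℤ, Subsingleton (M ⟶ ω⟦i⟧) ↔ Subsingleton
      (Dual.HD A ((DRing.RgammaI (IsLocalRing.maximalIdeal A)).obj M) (-i)) := by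
    intro i
    have := key (-i)
    rwa [neg_neg] at this
  constructor
  · constructor
    · intro h i hi
      exact (key i).1 (h (-i) (by lia))
    · intro h i hi
      exact (key' i).2 (h (-i) (by lia))
  · constructor
    · intro h i hi
      exact (key i).1 (h (-i) (by lia))
    · intro h i hi
      exact (key' i).2 (h (-i) (by lia))

end Main

end Helper5.PervLoc
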